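import Groth.Agent.Lib.DerTrunc.Basic
import Mathlib.Algebra.Homology.DerivedCategory.HomologySequence
import Mathlib.Algebra.Homology.DerivedCategory.SingleTriangle
import Mathlib.CategoryTheory.Triangulated.Functor
import Mathlib.CategoryTheory.Abelian.DiagramLemmas.Four

/-!
Way-out lemmas for natural transformations of triangulated functors between derived categories.
-/

set_option autoImplicit false
set_option backward.isDefEq.respectTransparency false
set_option backward.isDefEq.respectTransparency.types false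

universe w' w v' u' v u

open CategoryTheory CategoryTheory.Limits CategoryTheory.Pretriangulated
open DerivedCategory.TStructure

namespace Groth.Agent.WayOut8

variable {A : Type u} [Category.{v} A] [Abelian A] [HasDerivedCategory.{w} A]
  {B : Type u'} [Category.{v'} B] [Abelian B] [HasDerivedCategory.{w'} B]
  {F G : DerivedCategory A ⥤ DerivedCategory B} [F.CommShift ℤ] [G.CommShift ℤ]
  [F.IsTriangulated] [G.IsTriangulated] (η : F ⟶ G) [NatTrans.CommShift η ℤ]

local notation "HH" => DerivedCategory.homologyFunctor B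

/-- The morphism of triangles induced by `η`. -/
noncomputable def triMap (T : Triangle (DerivedCategory A)) :
    F.mapTriangle.obj T ⟶ G.mapTriangle.obj T where
  hom₁ := η.app T.obj₁
  hom₂ := η.app T.obj₂
  hom₃ := η.app T.obj₃
  comm₁ := η.naturality T.mor₁
  comm₂ := η.naturality T.mor₂
  comm₃ := by
    show (F.map T.mor₃ ≫ (F.commShiftIso (1 : ℤ)).hom.app T.obj₁) ≫ (η.app T.obj₁)⟦1⟧' =
      η.app T.obj₃ ≫ G.map T.mor₃ ≫ (G.commShiftIso (1 : ℤ)).hom.app T.obj₁
    rw [Category.assoc, NatTrans.shift_app_comm, η.naturality_assoc]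

theorem isIso_mid {T : Triangle (DerivedCategory A)} (hT : T ∈ distTriang _)
    (h₁ : IsIso (η.app T.obj₁)) (h₃ : IsIso (η.app T.obj₃)) : IsIso (η.app T.obj₂) :=
  isIso₂_of_isIso₁₃ (triMap η T) (F.map_distinguished T hT) (G.map_distinguished T hT) h₁ h₃

theorem isIso_of_iso {X Y : DerivedCategory A} (e : X ≅ Y) (h : IsIso (η.app X)) : IsIso (η.app Y) := by
  rw [show η.app Y = F.map e.inv ≫ η.app X ≫ G.map e.hom by simp]
  infer_instance

theorem isIso_shift {X : DerivedCategory A} (n : ℤ) (h : IsIso (η.app X)) : IsIso (η.app (X⟦n⟧)) := by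
  rw [NatTrans.app_shift η n X]
  infer_instance

theorem isIso_single (Y : A) (h : IsIso (η.app ((DerivedCategory.singleFunctor A 0).obj Y))) (n : ℤ) :
    IsIso (η.app ((DerivedCategory.singleFunctor A n).obj Y)) :=
  isIso_of_iso η (((DerivedCategory.singleFunctors A).shiftIso (-n) n 0 (by omega)).app Y)
    (isIso_shift η (-n) h)

theorem isIso_of_isZero {X : DerivedCategory A} (h : IsZero X) : IsIso (η.app X) :=
  ⟨0, (F.map_isZero h).eq_of_src _ _, (G.map_isZero h).eq_of_src _ _⟩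

/-- Concentrated objects. -/
theorem isIso_concentrated (X : DerivedCategory A) (n : ℤ) [X.IsGE n] [X.IsLE n]
    (h : IsIso (η.app ((DerivedCategory.singleFunctor A 0).obj
      ((DerivedCategory.homologyFunctor A n).obj X)))) : IsIso (η.app X) := by
  obtain ⟨Y, ⟨e⟩⟩ := DerivedCategory.exists_iso_singleFunctor_obj_of_isGE_of_isLE X n
  let e' : Y ≅ (DerivedCategory.homologyFunctor A n).obj X :=
    ((DerivedCategory.singleFunctorCompHomologyFunctorIso A n).app Y).symm ≪≫
      ((DerivedCategory.homologyFunctor A n).mapIso e).symm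
  exact isIso_of_iso η e.symm (isIso_single η Y
    (isIso_of_iso η ((DerivedCategory.singleFunctor A 0).mapIso e').symm h) n)

/-- Bounded objects. -/
theorem isIso_bounded (P : ObjectProperty A) [P.IsClosedUnderIsomorphisms]
    (hη : ∀ Y : A, P Y → IsIso (η.app ((DerivedCategory.singleFunctor A 0).obj Y)))
    (X : DerivedCategory A) (a b : ℤ) [X.IsGE a] [X.IsLE b]
    (hX : ∀ i : ℤ, a ≤ i → i ≤ b → P ((DerivedCategory.homologyFunctor A i).obj X)) :
    IsIso (η.app X) := by
  suffices H : ∀ (k : ℕ) (b : ℤ) (X : DerivedCategory A), b < a + k → X.IsGE a → X.IsLE b →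
      (∀ i : ℤ, a ≤ i → i ≤ b → P ((DerivedCategory.homologyFunctor A i).obj X)) → IsIso (η.app X) from
    H (b + 1 - a).toNat b X (by omega) ‹_› ‹_› hX
  intro k
  induction k with
  | zero =>
    intro b X hb hge hle _
    refine isIso_of_isZero η ?_
    rw [IsZero.iff_id_eq_zero]
    exact t.zero (𝟙 X) b a (by omega)
  | succ k ih =>
    intro b X hb hge hle hX
    by_cases hab : b < a
    · refine isIso_of_isZero η ?_
      rw [IsZero.iff_id_eq_zero]
      exact t.zero (𝟙 X) b a hab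
    have h1 : ((t.truncLT b).obj X).IsGE a := (inferInstanceAs (t.IsGE ((t.truncLT b).obj X) a))
    have h2 : ((t.truncLT b).obj X).IsLE (b - 1) := (inferInstanceAs (t.IsLE ((t.truncLT b).obj X) (b - 1)))
    have h3 : ((t.truncGE b).obj X).IsGE b := (inferInstanceAs (t.IsGE ((t.truncGE b).obj X) b))
    have h4 : ((t.truncGE b).obj X).IsLE b := (inferInstanceAs (t.IsLE ((t.truncGE b).obj X) b))
    haveI h3' : ((t.triangleLTGE b).obj X).obj₃.IsGE b := h3
    haveI h4' : ((t.triangleLTGE b).obj X).obj₃.IsLE b := h4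
    refine isIso_mid η (t.triangleLTGE_distinguished b X)
      (ih (b - 1) _ (by omega) h1 h2 fun i hi hi' => ?_) (isIso_concentrated η _ b (hη _ ?_))
    · haveI := Groth.Agent.DerTrunc.isIso_homology_truncLTι X b i (by omega)
      exact P.prop_of_iso (asIso ((DerivedCategory.homologyFunctor A i).map ((t.truncLTι b).app X))).symm
        (hX i hi (by omega))
    · haveI := Groth.Agent.DerTrunc.isIso_homology_truncGEπ X b b le_rfl
      exact P.prop_of_iso (asIso ((DerivedCategory.homologyFunctor A b).map ((t.truncGEπ b).app X)))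
        (hX b (by omega) le_rfl)

/-- If `X ⟶ X'` is iso on `Hⁱ` after `F` and `G`, `Hⁱ(η)` can be checked on either. -/
theorem isIso_homology_iff {X X' : DerivedCategory A} (f : X ⟶ X') (i : ℤ)
    (hF : IsIso ((HH i).map (F.map f))) (hG : IsIso ((HH i).map (G.map f))) :
    IsIso ((HH i).map (η.app X)) ↔ IsIso ((HH i).map (η.app X')) := by
  have e : (HH i).map (F.map f) ≫ (HH i).map (η.app X') = (HH i).map (η.app X) ≫ (HH i).map (G.map f) := by
    rw [← Functor.map_comp, ← Functor.map_comp, η.naturality]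
  constructor
  · intro h
    haveI : IsIso ((HH i).map (F.map f) ≫ (HH i).map (η.app X')) := by rw [e]; infer_instance
    exact IsIso.of_isIso_comp_left ((HH i).map (F.map f)) _
  · intro h
    haveI : IsIso ((HH i).map (η.app X) ≫ (HH i).map (G.map f)) := by rw [← e]; infer_instance
    exact IsIso.of_isIso_comp_right _ ((HH i).map (G.map f))

/-- Bounded below objects, for way-out right functors. -/
theorem isIso_isGE (P : ObjectProperty A) [P.IsClosedUnderIsomorphisms]
    (hF : ∀ n₁ : ℤ, ∃ n₂ : ℤ, ∀ Y : DerivedCategory A, Y.IsGE n₂ → (F.obj Y).IsGE n₁)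
    (hG : ∀ n₁ : ℤ, ∃ n₂ : ℤ, ∀ Y : DerivedCategory A, Y.IsGE n₂ → (G.obj Y).IsGE n₁)
    (hη : ∀ Y : A, P Y → IsIso (η.app ((DerivedCategory.singleFunctor A 0).obj Y)))
    (X : DerivedCategory A) (a : ℤ) [X.IsGE a]
    (hX : ∀ i : ℤ, P ((DerivedCategory.homologyFunctor A i).obj X)) : IsIso (η.app X) := by
  rw [DerivedCategory.isIso_iff]
  intro i
  obtain ⟨m₁, hm₁⟩ := hF (i + 2)
  obtain ⟨m₂, hm₂⟩ := hG (i + 2)
  let m := max m₁ m₂
  let T := (t.triangleLTGE m).obj X
  haveI hge : T.obj₃.IsGE m := (inferInstanceAs (t.IsGE ((t.truncGE m).obj X) m))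
  haveI : T.obj₁.IsGE a := (inferInstanceAs (t.IsGE ((t.truncLT m).obj X) a))
  haveI : T.obj₁.IsLE (m - 1) := (inferInstanceAs (t.IsLE ((t.truncLT m).obj X) (m - 1)))
  haveI g1 : T.obj₃.IsGE m₁ := t.isGE_of_ge T.obj₃ m₁ m (le_max_left _ _)
  haveI g2 : T.obj₃.IsGE m₂ := t.isGE_of_ge T.obj₃ m₂ m (le_max_right _ _)
  haveI := hm₁ T.obj₃ g1
  haveI := hm₂ T.obj₃ g2
  have hb : IsIso (η.app T.obj₁) := isIso_bounded η P hη T.obj₁ a (m - 1) fun j _ hj => by
    haveI := Groth.Agent.DerTrunc.isIso_homology_truncLTι X m j (by omega)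
    exact P.prop_of_iso (asIso ((DerivedCategory.homologyFunctor A j).map ((t.truncLTι m).app X))).symm (hX j)
  exact (isIso_homology_iff η T.mor₁ i
    (Groth.Agent.DerTrunc.isIso_map_mor₁ _ (F.map_distinguished T (t.triangleLTGE_distinguished m X)) i
      (DerivedCategory.isZero_of_isGE (F.obj T.obj₃) (i + 2) _ (by omega))
      (DerivedCategory.isZero_of_isGE (F.obj T.obj₃) (i + 2) _ (by omega)))
    (Groth.Agent.DerTrunc.isIso_map_mor₁ _ (G.map_distinguished T (t.triangleLTGE_distinguished m X)) i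
      (DerivedCategory.isZero_of_isGE (G.obj T.obj₃) (i + 2) _ (by omega))
      (DerivedCategory.isZero_of_isGE (G.obj T.obj₃) (i + 2) _ (by omega)))).1 inferInstance

/-- All objects, for functors way-out in both directions. -/
theorem isIso_all (P : ObjectProperty A) [P.IsClosedUnderIsomorphisms] (hP : ∀ Z : A, IsZero Z → P Z)
    (hF : ∀ n₁ : ℤ, ∃ n₂ : ℤ, ∀ Y : DerivedCategory A, Y.IsGE n₂ → (F.obj Y).IsGE n₁)
    (hF' : ∀ n₁ : ℤ, ∃ n₂ : ℤ, ∀ Y : DerivedCategory A, Y.IsLE n₂ → (F.obj Y).IsLE n₁)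
    (hG : ∀ n₁ : ℤ, ∃ n₂ : ℤ, ∀ Y : DerivedCategory A, Y.IsGE n₂ → (G.obj Y).IsGE n₁)
    (hG' : ∀ n₁ : ℤ, ∃ n₂ : ℤ, ∀ Y : DerivedCategory A, Y.IsLE n₂ → (G.obj Y).IsLE n₁)
    (hη : ∀ Y : A, P Y → IsIso (η.app ((DerivedCategory.singleFunctor A 0).obj Y)))
    (X : DerivedCategory A)
    (hX : ∀ i : ℤ, P ((DerivedCategory.homologyFunctor A i).obj X)) : IsIso (η.app X) := by
  rw [DerivedCategory.isIso_iff]
  intro i
  obtain ⟨m₁, hm₁⟩ := hF' (i - 2)
  obtain ⟨m₂, hm₂⟩ := hG' (i - 2)
  let m := min m₁ m₂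
  let T := (t.triangleLTGE m).obj X
  haveI : T.obj₁.IsLE (m - 1) := (inferInstanceAs (t.IsLE ((t.truncLT m).obj X) (m - 1)))
  haveI g1 : T.obj₁.IsLE m₁ := t.isLE_of_le T.obj₁ (m - 1) m₁ (by omega)
  haveI g2 : T.obj₁.IsLE m₂ := t.isLE_of_le T.obj₁ (m - 1) m₂ (by omega)
  haveI := hm₁ T.obj₁ g1
  haveI := hm₂ T.obj₁ g2
  haveI : T.obj₃.IsGE m := (inferInstanceAs (t.IsGE ((t.truncGE m).obj X) m))
  have hb : IsIso (η.app T.obj₃) := isIso_isGE η P hF hG hη T.obj₃ m fun j => by
    by_cases hj : j < m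
    · exact hP _ (DerivedCategory.isZero_of_isGE T.obj₃ m j hj)
    · haveI := Groth.Agent.DerTrunc.isIso_homology_truncGEπ X m j (by omega)
      exact P.prop_of_iso (asIso ((DerivedCategory.homologyFunctor A j).map ((t.truncGEπ m).app X))) (hX j)
  exact (isIso_homology_iff η T.mor₂ i
    (Groth.Agent.DerTrunc.isIso_map_mor₂ _ (F.map_distinguished T (t.triangleLTGE_distinguished m X)) i
      (DerivedCategory.isZero_of_isLE (F.obj T.obj₁) (i - 2) _ (by omega))
      (DerivedCategory.isZero_of_isLE (F.obj T.obj₁) (i - 2) _ (by omega)))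
    (Groth.Agent.DerTrunc.isIso_map_mor₂ _ (G.map_distinguished T (t.triangleLTGE_distinguished m X)) i
      (DerivedCategory.isZero_of_isLE (G.obj T.obj₁) (i - 2) _ (by omega))
      (DerivedCategory.isZero_of_isLE (G.obj T.obj₁) (i - 2) _ (by omega)))).2 inferInstance

/-- Five lemma for the homology sequence. -/
theorem five {T : Triangle (DerivedCategory A)} (hT : T ∈ distTriang _) (j i : ℤ) (hij : j + 1 = i)
    (h2 : IsIso ((HH j).map (η.app T.obj₂))) (h3 : IsIso ((HH j).map (η.app T.obj₃))) :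
    (Mono ((HH i).map (η.app T.obj₂)) → Mono ((HH i).map (η.app T.obj₁))) ∧
    (IsIso ((HH i).map (η.app T.obj₂)) → Mono ((HH i).map (η.app T.obj₃)) →
      IsIso ((HH i).map (η.app T.obj₁))) := by
  let φ' := triMap η T
  let Φ : (HH 0).homologySequenceComposableArrows₅ (F.mapTriangle.obj T) j i hij ⟶
      (HH 0).homologySequenceComposableArrows₅ (G.mapTriangle.obj T) j i hij :=
    ComposableArrows.homMk₅ (((HH 0).shift j).map φ'.hom₁) (((HH 0).shift j).map φ'.hom₂)
      (((HH 0).shift j).map φ'.hom₃) (((HH 0).shift i).map φ'.hom₁) (((HH 0).shift i).map φ'.hom₂)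
      (((HH 0).shift i).map φ'.hom₃)
      (by show ((HH 0).shift j).map _ ≫ _ = _ ≫ ((HH 0).shift j).map _
          exact (Functor.map_comp _ _ _).symm.trans ((congrArg _ φ'.comm₁).trans (Functor.map_comp _ _ _)))
      (by show ((HH 0).shift j).map _ ≫ _ = _ ≫ ((HH 0).shift j).map _
          exact (Functor.map_comp _ _ _).symm.trans ((congrArg _ φ'.comm₂).trans (Functor.map_comp _ _ _)))
      ((HH 0).homologySequenceδ_naturality _ _ φ' j i hij).symm
      (by show ((HH 0).shift i).map _ ≫ _ = _ ≫ ((HH 0).shift i).map _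
          exact (Functor.map_comp _ _ _).symm.trans ((congrArg _ φ'.comm₁).trans (Functor.map_comp _ _ _)))
      (by show ((HH 0).shift i).map _ ≫ _ = _ ≫ ((HH 0).shift i).map _
          exact (Functor.map_comp _ _ _).symm.trans ((congrArg _ φ'.comm₂).trans (Functor.map_comp _ _ _)))
  have e1 := (HH 0).homologySequenceComposableArrows₅_exact _ (F.map_distinguished T hT) j i hij
  have e2 := (HH 0).homologySequenceComposableArrows₅_exact _ (G.map_distinguished T hT) j i hij
  refine ⟨fun h => ?_, fun h h' => ?_⟩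
  · exact Abelian.mono_of_epi_of_mono_of_mono'' (k := 1) (by omega) e1 e2 Φ 1 2 3 4 rfl rfl rfl rfl
      (show Epi ((HH j).map (η.app T.obj₂)) from inferInstance)
      (show Mono ((HH j).map (η.app T.obj₃)) from inferInstance) h
  · exact Abelian.isIso_of_epi_of_isIso_of_isIso_of_mono' (k := 1) (by omega) e1 e2 Φ 1 2 3 4 5
      rfl rfl rfl rfl rfl
      (show Epi ((HH j).map (η.app T.obj₂)) from inferInstance) h3 h h'

/-- Cogenerating classes. -/
theorem isIso_cogen (P : ObjectProperty A) (hP : ∀ X : A, ∃ (Y : A) (i : X ⟶ Y), P Y ∧ Mono i)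
    (hF : ∀ n₁ : ℤ, ∃ n₂ : ℤ, ∀ Y : DerivedCategory A, Y.IsGE n₂ → (F.obj Y).IsGE n₁)
    (hG : ∀ n₁ : ℤ, ∃ n₂ : ℤ, ∀ Y : DerivedCategory A, Y.IsGE n₂ → (G.obj Y).IsGE n₁)
    (hη : ∀ X : A, P X → IsIso (η.app ((DerivedCategory.singleFunctor A 0).obj X)))
    (X : A) : IsIso (η.app ((DerivedCategory.singleFunctor A 0).obj X)) := by
  obtain ⟨m₁, hm₁⟩ := hF 0
  obtain ⟨m₂, hm₂⟩ := hG 0
  let m := max m₁ m₂
  let S : A → DerivedCategory A := fun Y => ((DerivedCategory.singleFunctor A 0).obj Y)⟦-m⟧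
  suffices H : ∀ (k : ℕ) (i : ℤ), i < (k : ℤ) → ∀ Y : A, IsIso ((HH i).map (η.app (S Y))) by
    have h : IsIso (η.app (S X)) := by
      rw [DerivedCategory.isIso_iff]
      exact fun i => H (i + 1).toNat i (by omega) X
    exact isIso_of_iso η ((shiftFunctorCompIsoId (DerivedCategory A) (-m) m (by omega)).app _)
      (isIso_shift η m h)
  intro k
  induction k with
  | zero =>
    intro i hi Y
    haveI : (S Y).IsGE m := by
      show t.IsGE (((DerivedCategory.singleFunctor A 0).obj Y)⟦-m⟧) m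
      haveI : t.IsGE ((DerivedCategory.singleFunctor A 0).obj Y) 0 :=
        inferInstanceAs (((DerivedCategory.singleFunctor A 0).obj Y).IsGE 0)
      exact t.isGE_shift _ 0 (-m) m (by omega)
    haveI g1 : (S Y).IsGE m₁ := t.isGE_of_ge _ m₁ m (le_max_left _ _)
    haveI g2 : (S Y).IsGE m₂ := t.isGE_of_ge _ m₂ m (le_max_right _ _)
    haveI := hm₁ _ g1
    haveI := hm₂ _ g2
    exact ⟨0, (DerivedCategory.isZero_of_isGE (F.obj (S Y)) 0 i (by omega)).eq_of_src _ _,
      (DerivedCategory.isZero_of_isGE (G.obj (S Y)) 0 i (by omega)).eq_of_src _ _⟩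
  | succ k ih =>
    intro i hi
    by_cases hik : i < (k : ℤ)
    · exact ih i hik
    have key : ∀ Y : A, ∃ T : Triangle (DerivedCategory A), ∃ (Z Y' : A), T ∈ distTriang _ ∧
        (∀ j, IsIso ((HH j).map (η.app T.obj₂))) ∧ T.obj₁ = S Y ∧ T.obj₃ = S Y' := by
      intro Y
      obtain ⟨Z, ι, hZ, hι⟩ := hP Y
      have hS : (ShortComplex.mk ι (cokernel.π ι) (cokernel.condition ι)).ShortExact :=
        { exact := ShortComplex.exact_cokernel ι }
      refine ⟨(Triangle.shiftFunctor _ (-m)).obj hS.singleTriangle, Z, cokernel ι,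
        Triangle.shift_distinguished _ hS.singleTriangle_distinguished (-m), fun j => ?_, rfl, rfl⟩
      haveI : IsIso (η.app (((DerivedCategory.singleFunctor A 0).obj Z)⟦-m⟧)) := isIso_shift η (-m) (hη Z hZ)
      show IsIso ((HH j).map (η.app (((DerivedCategory.singleFunctor A 0).obj Z)⟦-m⟧)))
      infer_instance
    have hmono : ∀ Y : A, Mono ((HH i).map (η.app (S Y))) := by
      intro Y
      obtain ⟨T, Z, Y', hT, h2, e1, e3⟩ := key Y
      rw [← e1]
      exact (five η hT (i - 1) i (by omega) (h2 _) (by rw [e3]; exact ih (i - 1) (by omega) Y')).1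
        (haveI := h2 i; inferInstance)
    intro Y
    obtain ⟨T, Z, Y', hT, h2, e1, e3⟩ := key Y
    rw [← e1]
    exact (five η hT (i - 1) i (by omega) (h2 _) (by rw [e3]; exact ih (i - 1) (by omega) Y')).2
      (h2 i) (by rw [e3]; exact hmono Y')

end Groth.Agent.WayOut8
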